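import Groth.Agent.Sga2lef.H83.OfMod
import Groth.Agent.Sga2lef.H82.RelEsz
import Groth.Agent.Sga2lef.H298.VanX0Of
import Groth.Agent.Sga2lef.H298.VanGenOf
import Groth.Agent.S0051
import Groth.Agent.S0002

/-!
# Algebraization of levelwise finite locally free systems along an ample divisor, relative form

`exists_coh`: under the hypotheses of S3361, every levelwise finite locally free system of modules on the completion
is the completion of a coherent module.

Author: helper83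
-/

set_option autoImplicit false
universe u

open CategoryTheory CategoryTheory.Limits AlgebraicGeometry Opposite TopologicalSpace

namespace Groth.Agent.Sga2lef.H83.Main

open Groth.Agent Groth.Agent.Sga2lef.H83.Frame Groth.Agent.Sga2lef.H83.Sys Groth.Agent.Sga2lef.H83.Twist
  Groth.Agent.Sga2lef.H96.ModSysPush

/-- Serre vanishing in terms of `Tpow`. -/
theorem serre (A : Type u) [CommRing A] [IsNoetherianRing A] (X : Scheme.{u}) [X.Over (Spec (CommRingCat.of A))]
    [IsProper (X ↘ Spec (CommRingCat.of A))] {L : X.Modules} (hL : PicF.IsInvertible L) (hamp : CohB1.IsAmple L)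
    (M : X.Modules) (hM : Coh.IsCoh M) :
    ∃ a₀ : ℕ, ∀ a, a₀ ≤ a → Subsingleton (Coh.HH X ((Tpow L a).obj M) 1) := by
  obtain ⟨n₀, h⟩ := (Groth.Agent.S0051.result A X (X ↘ Spec (CommRingCat.of A)) L hL).1 hamp M hM
  refine ⟨n₀, fun a ha => ?_⟩
  obtain ⟨e⟩ := nonempty_iso_Tpow L a M
  exact Sga2.ThickCoh.subsingleton_HH_of_iso e.symm 1 (h a ha 1 one_pos)

/-- Every levelwise finite locally free system on the completion is the completion of a coherent module. -/
theorem exists_coh (A : Type u) [CommRing A] [IsNoetherianRing A] (X : Scheme.{u})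
    [X.Over (Spec (CommRingCat.of A))] [IsProper (X ↘ Spec (CommRingCat.of A))]
    [Flat (X ↘ Spec (CommRingCat.of A))] (𝓘 : X.IdealSheafData) (L : X.Modules)
    (hL : ClSub.IsInverseOf L (ClSub.idealMod 𝓘)) (hamp : CohB1.IsAmple L)
    [Flat (𝓘.subschemeι ≫ (X ↘ Spec (CommRingCat.of A)))]
    (hdepth0 : ∀ y : ↥(𝓘.subscheme),
      IsClosed ({((𝓘.subschemeι ≫ (X ↘ Spec (CommRingCat.of A)))).asFiber y} :
        Set ↥(((𝓘.subschemeι ≫ (X ↘ Spec (CommRingCat.of A)))).fiber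
          (((𝓘.subschemeι ≫ (X ↘ Spec (CommRingCat.of A)))).base y))) →
      (2 : ℕ∞) ≤ LocCoh.depth ↑(CInt.fiberStalk (𝓘.subschemeι ≫ (X ↘ Spec (CommRingCat.of A))) y)
        ↑(CInt.fiberStalk (𝓘.subschemeι ≫ (X ↘ Spec (CommRingCat.of A))) y))
    (hdepth : ∀ x : X, IsClosed ({((X ↘ Spec (CommRingCat.of A))).asFiber x} :
        Set ↥(((X ↘ Spec (CommRingCat.of A))).fiber (((X ↘ Spec (CommRingCat.of A))).base x))) →
      (2 : ℕ∞) ≤ LocCoh.depth ↑(CInt.fiberStalk (X ↘ Spec (CommRingCat.of A)) x)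
        ↑(CInt.fiberStalk (X ↘ Spec (CommRingCat.of A)) x))
    (𝔐 : FSch.ModSys (FSch.completionAlong X 𝓘)) (h𝔐 : LefX.LevelwiseFinLocFree 𝔐) :
    ∃ F : X.Modules, Coh.IsCoh F ∧ Nonempty (FSch.completionMod 𝓘 F ≅ 𝔐) ∧
      ∀ n, FlatMod.IsFinLocFree ((Scheme.Modules.pullback (FSch.completionToX X 𝓘 n)).obj F) := by
  have hln : IsLocallyNoetherian X := LocallyOfFiniteType.isLocallyNoetherian (X ↘ Spec (CommRingCat.of A))
  obtain ⟨σ, hσ⟩ := exists_section hL
  have hG := OfMod.isRegSys hσ 𝔐 h𝔐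
  have hvV : ∀ E : 𝓘.subscheme.Modules, FlatMod.IsFinLocFree E →
      Alg.Van (ClSub.idealMod 𝓘) ((Scheme.Modules.pushforward 𝓘.subschemeι).obj E) := fun E hE =>
    H298.VanX0Of.exists_vanish_of (fun A _ _ X _ _ => fun hL hamp F hF hfl n hd =>
      H82.RelEsz.relEsz A X hL hamp F hF hfl n hd) A X 𝓘 L hL hamp hdepth0 E hE
  have hvO : Alg.Van (ClSub.idealMod 𝓘) (Coh.structureModule X) :=
    H298.VanGenOf.exists_vanish_gen_of A X (fun hL hamp F hF hfl n hd =>
      H82.RelEsz.relEsz A X hL hamp F hF hfl n hd) hL hamp hdepth _ Sga67.TensorOps.isFinLocFree_structureModule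
  obtain ⟨F, hF, p, hp, hp'⟩ := Alg.algebraize_of_van hG hσ hL hamp A
    (fun M hM p => Groth.Agent.S0002.result A X M hM p) (serre A X hamp.1 hamp)
    (OfMod.van_zero hvV 𝔐 h𝔐) hvO hvV
  have e := H96.ModSysRec.nonempty_iso_of_isKQuot 𝔐 F hF.1 p hp' hp
  refine ⟨F, hF, e, fun n => ?_⟩
  obtain ⟨en⟩ := OfMod.nonempty_iso_level e n
  exact Dcoh.FinLocFree.isFinLocFree_of_iso en.symm (h𝔐 n)

end Groth.Agent.Sga2lef.H83.Main
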