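import Groth.Agent.Sga2lef.H83.OfMod
import Groth.Agent.Sga2lef.H78.LeffOpen

/-!
# The completion of `ι_* (F|_U)` is the completion of `F` for `V(𝓘) ⊂ U`

* `exists_ext`, `ext_unique`: morphisms from `F` to a module killed by `K`, `V(K) ⊂ U`, extend uniquely to `ι_* (F|_U)`.
* `nonempty_iso`: if `completionMod 𝓘 F ≅ 𝔐` through compatible quotient maps, the same for `ι_* (F|_U)`.

Author: helper83
-/

set_option autoImplicit false
universe u

open CategoryTheory CategoryTheory.Limits AlgebraicGeometry Opposite TopologicalSpace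

namespace Groth.Agent.Sga2lef.H83.Ext

open Groth.Agent Groth.Agent.FormalB.KQuot Groth.Agent.FormalB.TrKQuot Groth.Agent.Sga2lef.H96.ModSysPush

variable {X : Scheme.{u}} {U : X.Opens}

/-- `ι_* (F|_U)`. -/
noncomputable abbrev ext (U : X.Opens) (F : X.Modules) : X.Modules :=
  (Scheme.Modules.pushforward U.ι).obj (F.restrict U.ι)

/-- `F ⟶ ι_* (F|_U)`. -/
noncomputable def η (U : X.Opens) (F : X.Modules) : F ⟶ ext U F :=
  (Scheme.Modules.restrictAdjunction U.ι).unit.app F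

/-- A module killed by `K` with `V(K) ⊂ U` is a direct image from `U`. -/
theorem exists_iso_push {K : X.IdealSheafData} (g : K.subscheme ⟶ U) (hg : g ≫ U.ι = K.subschemeι)
    {Z : X.Modules} (hZ : ClSub.KilledByIdeal K Z) :
    ∃ N : (U : Scheme.{u}).Modules, Nonempty (Z ≅ (Scheme.Modules.pushforward U.ι).obj N) := by
  obtain ⟨W, ⟨e⟩⟩ := exists_iso_pushforward K hZ
  refine ⟨(Scheme.Modules.pushforward g).obj W, ⟨e ≪≫ ?_⟩⟩
  exact (Scheme.Modules.pushforwardCongr hg.symm).app W ≪≫ ((Scheme.Modules.pushforwardComp g U.ι).app W).symm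

theorem exists_ext {K : X.IdealSheafData} (g : K.subscheme ⟶ U) (hg : g ≫ U.ι = K.subschemeι)
    {F Z : X.Modules} (hZ : ClSub.KilledByIdeal K Z) (φ : F ⟶ Z) : ∃ ψ : ext U F ⟶ Z, η U F ≫ ψ = φ := by
  obtain ⟨N, ⟨e⟩⟩ := exists_iso_push g hg hZ
  let adj := Scheme.Modules.restrictAdjunction U.ι
  refine ⟨(Scheme.Modules.pushforward U.ι).map ((adj.homEquiv _ _).symm (φ ≫ e.hom)) ≫ e.inv, ?_⟩
  have h1 : η U F ≫ (Scheme.Modules.pushforward U.ι).map ((adj.homEquiv _ _).symm (φ ≫ e.hom)) = φ ≫ e.hom := by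
    have h2 := adj.homEquiv_unit (X := F) (Y := N) (f := (adj.homEquiv _ _).symm (φ ≫ e.hom))
    rw [Equiv.apply_symm_apply] at h2
    exact h2.symm
  rw [← Category.assoc, h1, Category.assoc, e.hom_inv_id, Category.comp_id]

theorem ext_unique {K : X.IdealSheafData} (g : K.subscheme ⟶ U) (hg : g ≫ U.ι = K.subschemeι)
    {F Z : X.Modules} (hZ : ClSub.KilledByIdeal K Z) {ψ ψ' : ext U F ⟶ Z} (h : η U F ≫ ψ = η U F ≫ ψ') :
    ψ = ψ' := by
  obtain ⟨N, ⟨e⟩⟩ := exists_iso_push g hg hZ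
  let adj := Scheme.Modules.restrictAdjunction U.ι
  rw [← cancel_mono e.hom]
  obtain ⟨a, ha⟩ := (Scheme.Modules.pushforward U.ι).map_surjective (ψ ≫ e.hom)
  obtain ⟨a', ha'⟩ := (Scheme.Modules.pushforward U.ι).map_surjective (ψ' ≫ e.hom)
  have h1 : (adj.homEquiv _ _) a = (adj.homEquiv _ _) a' := by
    rw [adj.homEquiv_unit, adj.homEquiv_unit]
    change η U F ≫ _ = η U F ≫ _
    rw [ha, ha', ← Category.assoc, h, Category.assoc]
  rw [← ha, ← ha', (adj.homEquiv _ _).injective h1]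

theorem isKQuot_ext {K : X.IdealSheafData} (g : K.subscheme ⟶ U) (hg : g ≫ U.ι = K.subschemeι)
    {F Z : X.Modules} {φ : F ⟶ Z} (hφ : IsKQuot K φ) {ψ : ext U F ⟶ Z} (h : η U F ≫ ψ = φ) : IsKQuot K ψ := by
  have he := hφ.epi
  rw [← h] at he
  refine ⟨epi_of_epi (η U F) ψ, hφ.killed, fun {Y} χ hY => ?_⟩
  obtain ⟨ω, hω⟩ := hφ.desc (η U F ≫ χ) hY
  refine ⟨ω, ext_unique g hg hY ?_⟩
  rw [← Category.assoc, h, hω]

variable {𝓘 : X.IdealSheafData}

/-- Passage to `ι_* (F|_U)`. -/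
theorem nonempty_iso (hU : (𝓘.support : Set X) ⊆ (U : Set X)) (𝔐 : FSch.ModSys (FSch.completionAlong X 𝓘))
    (F : X.Modules) (hq : Coh.IsQCoh (ext U F)) (p : ∀ n, F ⟶ pm 𝔐 n)
    (hp : ∀ n, IsKQuot (𝓘 ^ (n + 1)) (p n)) (hpt : ∀ n, p (n + 1) ≫ ptr 𝔐 n = p n) :
    Nonempty (FSch.completionMod 𝓘 (ext U F) ≅ 𝔐) := by
  have hfac : ∀ n, ∃ g : (𝓘 ^ (n + 1)).subscheme ⟶ U, g ≫ U.ι = (𝓘 ^ (n + 1)).subschemeι := fun n =>
    H78.LeffOpen.exists_factor (𝓘 ^ (n + 1)).subschemeι U (H78.LeffOpen.subschemeι_mem 𝓘 n hU)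
  choose g hg using hfac
  choose q hqp using fun n => exists_ext (g n) (hg n) (hp n).killed (p n)
  refine H96.ModSysRec.nonempty_iso_of_isKQuot 𝔐 (ext U F) hq q (fun n => isKQuot_ext (g n) (hg n) (hp n) (hqp n))
    fun n => ?_
  apply ext_unique (g n) (hg n) (hp n).killed
  rw [← Category.assoc, hqp, hpt, hqp]

theorem isQCoh_ext [IsLocallyNoetherian X] (U : X.Opens) {F : X.Modules} (hF : Coh.IsQCoh F) :
    Coh.IsQCoh (ext U F) := by
  have h1 : F.IsQuasicoherent := hF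
  have h2 : Coh.IsQCoh (F.restrict U.ι) := by
    change (F.restrict U.ι).IsQuasicoherent
    infer_instance
  exact Ega1.QcqsPush.isQCoh_pushforward U.ι _ h2

section Completion

open Groth.Agent.Sga2lef.H96.ModSysRec Groth.Agent.Sga2lef.H96.Transp

theorem compat (𝔐 : FSch.ModSys (FSch.completionAlong X 𝓘)) {F : X.Modules}
    (q : ∀ n, (Scheme.Modules.pullback (FSch.completionToX X 𝓘 n)).obj F ⟶ 𝔐.F n) (n : ℕ)
    (H : (Scheme.Modules.pullback ((FSch.completionAlong X 𝓘).ι n)).map (q (n + 1)) ≫ (𝔐.e n).hom =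
      (qq ((FSch.completionAlong X 𝓘).ι n) (FSch.completionToX X 𝓘 (n + 1))
        (FSch.completionToX X 𝓘 n) (ι_toX 𝓘 n) F).hom ≫ q n) :
    ((Scheme.Modules.pullbackPushforwardAdjunction (FSch.completionToX X 𝓘 (n + 1))).homEquiv F (𝔐.F (n + 1)))
        (q (n + 1)) ≫ ptr 𝔐 n =
      ((Scheme.Modules.pullbackPushforwardAdjunction (FSch.completionToX X 𝓘 n)).homEquiv F (𝔐.F n)) (q n) := by
  rw [ptr_eq]
  exact (homEquiv_tr ((FSch.completionAlong X 𝓘).ι n) (FSch.completionToX X 𝓘 (n + 1))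
    (FSch.completionToX X 𝓘 n) (ι_toX 𝓘 n) (𝔐.e n).hom (q (n + 1)) (q n)).2 H

theorem nonempty_iso_of_q [IsLocallyNoetherian X] (hU : (𝓘.support : Set X) ⊆ (U : Set X))
    (𝔐 : FSch.ModSys (FSch.completionAlong X 𝓘)) {F : X.Modules} (hF : Coh.IsQCoh F)
    (q : ∀ n, (Scheme.Modules.pullback (FSch.completionToX X 𝓘 n)).obj F ⟶ 𝔐.F n)
    (hq : ∀ n, IsIso (q n))
    (H : ∀ n, (Scheme.Modules.pullback ((FSch.completionAlong X 𝓘).ι n)).map (q (n + 1)) ≫ (𝔐.e n).hom =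
      (qq ((FSch.completionAlong X 𝓘).ι n) (FSch.completionToX X 𝓘 (n + 1))
        (FSch.completionToX X 𝓘 n) (ι_toX 𝓘 n) F).hom ≫ q n) :
    Nonempty (FSch.completionMod 𝓘 (ext U F) ≅ 𝔐) :=
  nonempty_iso hU 𝔐 F (isQCoh_ext U hF)
    (fun n => ((Scheme.Modules.pullbackPushforwardAdjunction (FSch.completionToX X 𝓘 n)).homEquiv F (𝔐.F n)) (q n))
    (fun n => @isKQuot_of_isIso _ (𝓘 ^ (n + 1)) F hF (𝔐.F n) (q n) (hq n)) (fun n => compat 𝔐 q n (H n))

/-- **The completion of `ι_* (F|_U)` is the completion of `F`** for `V(𝓘) ⊂ U`. -/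
theorem nonempty_completion_iso [IsLocallyNoetherian X] (hU : (𝓘.support : Set X) ⊆ (U : Set X))
    {F : X.Modules} (hF : Coh.IsQCoh F) :
    Nonempty (FSch.completionMod 𝓘 (ext U F) ≅ FSch.completionMod 𝓘 F) := by
  rw [completionMod_eq 𝓘 F]
  refine nonempty_iso_of_q hU (cmOf 𝓘 F fun n => qq ((FSch.completionAlong X 𝓘).ι n) (FSch.completionToX X 𝓘 (n + 1))
    (FSch.completionToX X 𝓘 n) (ι_toX 𝓘 n) F) hF (fun n => 𝟙 _) (fun n => IsIso.id _) (fun n => ?_)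
  exact (congrArg (· ≫ _) (CategoryTheory.Functor.map_id _ _)).trans ((Category.id_comp _).trans (Category.comp_id _).symm)

end Completion

end Groth.Agent.Sga2lef.H83.Ext
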